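import Groth.Agent.Lib.ModLimH13.Sections

/-!
# Transition maps on sections of pullbacks, without affineness
-/

universe u

set_option linter.style.haveILetI false
set_option backward.isDefEq.respectTransparency false
set_option backward.isDefEq.respectTransparency.types false

open AlgebraicGeometry CategoryTheory Limits

namespace Groth.Agent.EtAssoc12

open ModLimH13

variable {X X' X'' X''' : Scheme.{u}} (p : X'' ⟶ X') (g : X' ⟶ X) (M : X.Modules) [Coh.IsQCoh M]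

/-- Transition maps compose. -/
theorem trans_trans_gen (r : X''' ⟶ X'') {h : X'' ⟶ X} (w : p ≫ g = h) {h' : X''' ⟶ X} (w' : r ≫ h = h')
    (w'' : (r ≫ p) ≫ g = h') {W' : X'.Opens} {W'' : X''.Opens} {W''' : X'''.Opens}
    (e' : W'' ≤ p ⁻¹ᵁ W') (e'' : W''' ≤ r ⁻¹ᵁ W'') (a : Γ((Scheme.Modules.pullback g).obj M, W')) :
    trans r h M w' e'' (trans p g M w e' a) =
      trans (r ≫ p) g M w'' (W' := W') (e''.trans (r.preimage_mono e')) a := by
  refine M1.section_ext _ _ fun z hz => ?_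
  obtain ⟨W, hW, hzW, -⟩ := exists_isAffineOpen_mem_and_subset (U := (⊤ : X.Opens))
    (show g (p (r z)) ∈ (⊤ : X.Opens) from trivial)
  obtain ⟨V', hV', hzV', hle⟩ := exists_isAffineOpen_mem_and_subset
    (show p (r z) ∈ W' ⊓ g ⁻¹ᵁ W from ⟨e' (e'' hz), hzW⟩)
  have d1 : V' ≤ W' := hle.trans inf_le_left
  let V'' : X''.Opens := W'' ⊓ p ⁻¹ᵁ V'
  let V''' : X'''.Opens := W''' ⊓ r ⁻¹ᵁ V''
  have d2 : V'' ≤ W'' := inf_le_left
  have d3 : V''' ≤ W''' := inf_le_left
  have hz3 : z ∈ V''' := ⟨hz, e'' hz, hzV'⟩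
  have d4 : V''' ≤ r ⁻¹ᵁ V'' := inf_le_right
  have d5 : V'' ≤ p ⁻¹ᵁ V' := inf_le_right
  rw [← M1.germ_mres _ d3 hz3]
  conv_rhs => rw [← M1.germ_mres _ d3 hz3]
  refine congrArg _ ?_
  rw [mres_trans, mres_trans, ← trans_mres r h M w' d2 d4, mres_trans, ← trans_mres p g M w d1 d5,
    ← trans_mres (r ≫ p) g M w'' d1 (d4.trans (r.preimage_mono d5))]
  exact trans_trans r p g M w w' w'' hW hV' (hle.trans inf_le_right) d5 d4 _

/-- The identity acts trivially. -/
theorem trans_id {W' : X'.Opens} (w : 𝟙 X' ≫ g = g) (e : W' ≤ (𝟙 X') ⁻¹ᵁ W')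
    (a : Γ((Scheme.Modules.pullback g).obj M, W')) :
    trans (𝟙 X') g M w e a = a := by
  refine M1.section_ext _ _ fun z hz => ?_
  obtain ⟨W, hW, hzW, -⟩ := exists_isAffineOpen_mem_and_subset (U := (⊤ : X.Opens))
    (show g z ∈ (⊤ : X.Opens) from trivial)
  obtain ⟨V', hV', hzV', hle⟩ := exists_isAffineOpen_mem_and_subset
    (show z ∈ W' ⊓ g ⁻¹ᵁ W from ⟨hz, hzW⟩)
  have d1 : V' ≤ W' := hle.trans inf_le_left
  have d2 : V' ≤ (𝟙 X') ⁻¹ᵁ V' := le_rfl
  rw [← M1.germ_mres _ d1 hzV']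
  conv_rhs => rw [← M1.germ_mres _ d1 hzV']
  refine congrArg _ ?_
  rw [mres_trans, ← trans_mres (𝟙 X') g M w d1 d2]
  generalize M1.mres _ d1 a = b
  induction b using pullback_induction g M (hle.trans inf_le_right) hW hV' with
  | h0 => exact trans_zero _ _ _ _ _
  | hadd x y hx hy => rw [trans_add, hx, hy]
  | hres c s =>
    rw [trans_smul, trans_res']
    congr 1
    simp [Scheme.Hom.appLE]
    exact ConcreteCategory.congr_hom (X'.presheaf.map_id _) c

section Cmp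

variable {Y V U : Scheme.{u}} (a : Y ⟶ V) (f : V ⟶ U) (g : U ⟶ X) {v : V ⟶ X} (hv : f ≫ g = v)
  {q : Y ⟶ U} (wq : a ≫ f = q) {h : Y ⟶ X} (wh : q ≫ g = h) (wv : a ≫ v = h)

lemma res'_zero {A B : Scheme.{u}} (φ : A ⟶ B) (N : B.Modules) {O : B.Opens} {O' : A.Opens}
    (d : O' ≤ φ ⁻¹ᵁ O) : res' φ N (W := O) d 0 = 0 := by
  simp [res', show M2.pullSec φ N (0 : Γ(N, O)) = 0 from map_zero _]

theorem trans_cmp_affine {W : X.Opens} (hW : IsAffineOpen W) {U₁ : U.Opens} (hU₁ : IsAffineOpen U₁)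
    (hU₁W : U₁ ≤ g ⁻¹ᵁ W) {V₁ : V.Opens} (hV₁ : IsAffineOpen V₁) (hV₁U : V₁ ≤ f ⁻¹ᵁ U₁) {Y₁ : Y.Opens}
    (e : Y₁ ≤ a ⁻¹ᵁ V₁) (b : Γ((Scheme.Modules.pullback f).obj ((Scheme.Modules.pullback g).obj M), V₁)) :
    ((cmp q g wh).hom.app M).app Y₁ (trans a f ((Scheme.Modules.pullback g).obj M) wq e b) =
      trans a v M wv e (((cmp f g hv).hom.app M).app V₁ b) := by
  haveI : Coh.IsQCoh ((Scheme.Modules.pullback g).obj M) := M1.isQCoh_pullback g inferInstance
  induction b using pullback_induction f ((Scheme.Modules.pullback g).obj M) hV₁U hU₁ hV₁ with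
  | h0 => rw [trans_zero, map_zero, map_zero]; exact (trans_zero _ _ _ _ _).symm
  | hadd x y hx hy =>
    rw [trans_add, map_add, hx, hy, map_add]
    exact (trans_add _ _ _ _ _ _ _).symm
  | hres c n =>
    rw [trans_smul, Scheme.Modules.Hom.app_smul, Scheme.Modules.Hom.app_smul]
    refine Eq.trans ?_ (trans_smul a v M wv e _ _).symm
    rw [trans_res']
    refine congrArg (_ • ·) ?_
    induction n using pullback_induction g M hU₁W hW hU₁ with
    | h0 =>
      rw [res'_zero, res'_zero, map_zero, map_zero]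
      exact (trans_zero _ _ _ _ _).symm
    | hadd x y hx hy =>
      rw [res'_add, res'_add, map_add, map_add, hx, hy]
      exact (trans_add _ _ _ _ _ _ _).symm
    | hres c' s =>
      rw [res'_smul, res'_smul, Scheme.Modules.Hom.app_smul, Scheme.Modules.Hom.app_smul, cmp_res']
      refine Eq.trans ?_ (trans_smul a v M wv e _ _).symm
      rw [cmp_res']
      refine Eq.trans ?_ (congrArg (_ • ·) (trans_res' a v M wv e _ s).symm)
      refine congrArg (· • _) ?_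
      rw [← CommRingCat.comp_apply, Scheme.Hom.appLE_comp_appLE]
      simp only [wq]

/-- Compatibility with the composition isomorphisms. -/
theorem trans_cmp {W' : V.Opens} {W'' : Y.Opens} (e : W'' ≤ a ⁻¹ᵁ W')
    (t : Γ((Scheme.Modules.pullback f).obj ((Scheme.Modules.pullback g).obj M), W')) :
    ((cmp q g wh).hom.app M).app W'' (trans a f ((Scheme.Modules.pullback g).obj M) wq e t) =
      trans a v M wv e (((cmp f g hv).hom.app M).app W' t) := by
  refine M1.section_ext _ _ fun z hz => ?_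
  obtain ⟨W, hW, hzW, -⟩ := exists_isAffineOpen_mem_and_subset (U := (⊤ : X.Opens))
    (show g (f (a z)) ∈ (⊤ : X.Opens) from trivial)
  obtain ⟨U₁, hU₁, hzU₁, hleU⟩ := exists_isAffineOpen_mem_and_subset
    (show f (a z) ∈ g ⁻¹ᵁ W from hzW)
  obtain ⟨V₁, hV₁, hzV₁, hle⟩ := exists_isAffineOpen_mem_and_subset
    (show a z ∈ W' ⊓ f ⁻¹ᵁ U₁ from ⟨e hz, hzU₁⟩)
  have d1 : V₁ ≤ W' := hle.trans inf_le_left
  let Y₁ : Y.Opens := W'' ⊓ a ⁻¹ᵁ V₁
  have d3 : Y₁ ≤ W'' := inf_le_left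
  have d4 : Y₁ ≤ a ⁻¹ᵁ V₁ := inf_le_right
  have hzY : z ∈ Y₁ := ⟨hz, hzV₁⟩
  have h1 : M1.mres _ d3 (((cmp q g wh).hom.app M).app W''
      (trans a f ((Scheme.Modules.pullback g).obj M) wq e t)) = ((cmp q g wh).hom.app M).app Y₁
        (trans a f ((Scheme.Modules.pullback g).obj M) wq d4 (M1.mres _ d1 t)) :=
    (M1.app_mres _ d3 _).symm.trans (congrArg _
      ((mres_trans a f _ wq e d3 t).trans (trans_mres a f _ wq d1 d4 t).symm))
  have h2 : M1.mres _ d3 (trans a v M wv e (((cmp f g hv).hom.app M).app W' t)) =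
      trans a v M wv d4 (((cmp f g hv).hom.app M).app V₁ (M1.mres _ d1 t)) :=
    ((mres_trans a v M wv e d3 _).trans (trans_mres a v M wv d1 d4 _).symm).trans
      (congrArg _ (M1.app_mres _ d1 t).symm)
  refine (M1.germ_mres _ d3 hzY _).symm.trans (Eq.trans ?_ (M1.germ_mres _ d3 hzY _))
  refine congrArg _ ?_
  rw [h1, h2]
  exact trans_cmp_affine M a f g hv wq wh wv hW hU₁ hleU hV₁ (hle.trans inf_le_right) d4 _

end Cmp

end Groth.Agent.EtAssoc12
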