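import Groth.Prelude.Def_EtAssoc2
import Groth.Agent.Lib.EtAssoc12.Trans
import Groth.Agent.Lib.QcohDesc12.Morph

/-!
# The étale sheaf associated with a quasi-coherent module
-/

universe u

set_option linter.style.haveILetI false
set_option linter.unusedSectionVars false
set_option backward.isDefEq.respectTransparency false
set_option backward.isDefEq.respectTransparency.types false

open AlgebraicGeometry CategoryTheory Limits Opposite

namespace Groth.Agent.EtAssoc12

open ModLimH13 QcohDesc12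

variable {S : Scheme.{u}} (F : S.Modules)

lemma pullbackComp_eqToHom {X Y Z : Scheme.{u}} (p : X ⟶ Y) (g : Y ⟶ Z) {h : X ⟶ Z} (w : p ≫ g = h)
    (M : Z.Modules) :
    ((Scheme.Modules.pullbackComp p g).app M).hom ≫
        eqToHom (congrArg (fun h => (Scheme.Modules.pullback h).obj M) w) = (cmp p g w).hom.app M := by
  subst w
  unfold ModLimH13.cmp
  simp [Scheme.Modules.pullbackCongr]

lemma top_le {X Y : Scheme.{u}} (g : X ⟶ Y) : (⊤ : X.Opens) ≤ g ⁻¹ᵁ ⊤ := fun _ _ => trivial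

theorem resMap_eq {U U' : S.Etale} (g : U' ⟶ U) (s : EtAssoc.obj F U) :
    EtAssoc.resMap F g s = trans g.left U.hom F (Over.w g.hom) (top_le g.left) s := by
  show (EtAssoc.step2a F g).app ⊤ (res' g.left ((Scheme.Modules.pullback U.hom).obj F) (top_le g.left) s) = _
  rw [EtAssoc.step2a]
  exact congrArg (fun φ => φ.app ⊤ (res' g.left ((Scheme.Modules.pullback U.hom).obj F) (top_le g.left) s))
    (pullbackComp_eqToHom g.left U.hom (Over.w g.hom) F)

variable [Coh.IsQCoh F]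

theorem resMap_id (U : S.Etale) (s : EtAssoc.obj F U) : EtAssoc.resMap F (𝟙 U) s = s := by
  rw [resMap_eq]
  exact trans_id U.hom F _ _ s

theorem resMap_comp {U U' U'' : S.Etale} (g : U' ⟶ U) (g' : U'' ⟶ U') (s : EtAssoc.obj F U) :
    EtAssoc.resMap F (g' ≫ g) s = EtAssoc.resMap F g' (EtAssoc.resMap F g s) := by
  rw [resMap_eq, resMap_eq, resMap_eq]
  exact (trans_trans_gen g.left U.hom F g'.left (Over.w g.hom) (Over.w g'.hom)
    ((Category.assoc _ _ _).trans (by rw [Over.w g.hom, Over.w g'.hom])) (top_le g.left) (top_le g'.left) s).symm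

/-- A section over `V` as a section of the iterated pullback. -/
noncomputable def sec {U V : S.Etale} (g : V ⟶ U) (s : EtAssoc.obj F V) :
    Γ((Scheme.Modules.pullback g.left).obj ((Scheme.Modules.pullback U.hom).obj F), g.left ⁻¹ᵁ ⊤) :=
  ((cmp g.left U.hom (Over.w g.hom)).inv.app F).app ⊤ s

lemma hom_sec {U V : S.Etale} (g : V ⟶ U) (s : EtAssoc.obj F V) :
    ((cmp g.left U.hom (Over.w g.hom)).hom.app F).app ⊤ (sec F g s) = s :=
  congrArg (fun φ => φ.app ⊤ s) ((cmp g.left U.hom (Over.w g.hom)).inv_hom_id_app F)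

lemma sec_hom {U V : S.Etale} (g : V ⟶ U)
    (u : Γ((Scheme.Modules.pullback g.left).obj ((Scheme.Modules.pullback U.hom).obj F), g.left ⁻¹ᵁ ⊤)) :
    sec F g (((cmp g.left U.hom (Over.w g.hom)).hom.app F).app ⊤ u) = u :=
  congrArg (fun φ => φ.app ⊤ u) ((cmp g.left U.hom (Over.w g.hom)).hom_inv_id_app F)

lemma resMap_eq_can {U V : S.Etale} (g : V ⟶ U) (n : EtAssoc.obj F U) :
    EtAssoc.resMap F g n = ((cmp g.left U.hom (Over.w g.hom)).hom.app F).app ⊤
      (res' g.left ((Scheme.Modules.pullback U.hom).obj F) (le_refl (g.left ⁻¹ᵁ ⊤)) n) :=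
  resMap_eq F g n

/-- Compatible sections agree on fibre products. -/
theorem trans_sec_eq {U V V' : S.Etale} (g : V ⟶ U) (g' : V' ⟶ U) (s : EtAssoc.obj F V)
    (s' : EtAssoc.obj F V') (hs : ∀ (W : S.Etale) (a : W ⟶ V) (b : W ⟶ V'), a ≫ g = b ≫ g' →
      EtAssoc.resMap F a s = EtAssoc.resMap F b s') :
    trans (pullback.fst g.left g'.left) g.left ((Scheme.Modules.pullback U.hom).obj F) rfl
        (W' := g.left ⁻¹ᵁ ⊤) (top_le (pullback.fst g.left g'.left)) (sec F g s) =
      trans (pullback.snd g.left g'.left) g'.left ((Scheme.Modules.pullback U.hom).obj F)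
        pullback.condition.symm (W' := g'.left ⁻¹ᵁ ⊤) (top_le (pullback.snd g.left g'.left)) (sec F g' s') := by
  let p₁ := pullback.fst g.left g'.left
  let p₂ := pullback.snd g.left g'.left
  haveI : Etale g'.left := inferInstance
  have hi : g.left ≫ U.hom = V.hom := Over.w g.hom
  have hj : g'.left ≫ U.hom = V'.hom := Over.w g'.hom
  have hb : p₂ ≫ V'.hom = p₁ ≫ V.hom :=
    (congrArg (p₂ ≫ ·) hj.symm).trans ((Category.assoc p₂ g'.left U.hom).symm.trans
      ((congrArg (· ≫ U.hom) pullback.condition.symm).trans ((Category.assoc p₁ g.left U.hom).trans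
        (congrArg (p₁ ≫ ·) hi))))
  let W : S.Etale := Scheme.Etale.mk (p₁ ≫ V.hom)
  let a : W ⟶ V := MorphismProperty.Over.homMk p₁ rfl
  let b : W ⟶ V' := MorphismProperty.Over.homMk p₂ hb
  have hab : a ≫ g = b ≫ g' := by
    apply MorphismProperty.Over.Hom.ext
    exact pullback.condition
  have hU : (p₁ ≫ g.left) ≫ U.hom = p₁ ≫ V.hom :=
    (Category.assoc _ _ _).trans (congrArg (p₁ ≫ ·) hi)
  have h1 := (trans_cmp F p₁ g.left U.hom hi (q := p₁ ≫ g.left) rfl hU rfl
    (W' := ⊤) (W'' := ⊤) (top_le p₁) (sec F g s)).trans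
      (congrArg (trans p₁ V.hom F rfl (top_le p₁)) (hom_sec F g s))
  have h2 := (trans_cmp F p₂ g'.left U.hom hj (q := p₁ ≫ g.left) pullback.condition.symm hU hb
    (W' := ⊤) (W'' := ⊤) (top_le p₂) (sec F g' s')).trans
      (congrArg (trans p₂ V'.hom F hb (top_le p₂)) (hom_sec F g' s'))
  have key : trans p₁ V.hom F rfl (top_le p₁) s = trans p₂ V'.hom F hb (top_le p₂) s' :=
    ((resMap_eq F a s).symm.trans (hs W a b hab)).trans (resMap_eq F b s')
  have h4 := (h1.trans key).trans h2.symm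
  exact ((ConcreteCategory.isIso_iff_bijective (((cmp (p₁ ≫ g.left) U.hom hU).hom.app F).app ⊤)).1
    inferInstance).1 h4

lemma app_inv_hom {X : Scheme.{u}} {M N : X.Modules} (e : M ≅ N) (W : X.Opens) (u : Γ(M, W)) :
    e.inv.app W (e.hom.app W u) = u := congrArg (fun φ => φ.app W u) e.hom_inv_id

/-- Sections glue uniquely along jointly surjective families. -/
theorem existsUnique_glue {U : S.Etale} {ι : Type u} {V : ι → S.Etale} (g : ∀ i, V i ⟶ U)
    (hsurj : ∀ x : U.left, ∃ i, x ∈ Set.range (g i).left) (s : ∀ i, EtAssoc.obj F (V i))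
    (hs : ∀ (i j : ι) (W : S.Etale) (a : W ⟶ V i) (b : W ⟶ V j), a ≫ g i = b ≫ g j →
      EtAssoc.resMap F a (s i) = EtAssoc.resMap F b (s j)) :
    ∃! n : EtAssoc.obj F U, ∀ i, EtAssoc.resMap F (g i) n = s i := by
  let f : ∀ i, (V i).left ⟶ U.left := fun i => (g i).left
  let N := (Scheme.Modules.pullback U.hom).obj F
  haveI : Coh.IsQCoh N := M1.isQCoh_pullback U.hom inferInstance
  have hf : Presieve.ofArrows (fun i => (V i).left) f ∈ Scheme.fpqcPrecoverage U.left := by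
    refine ⟨?_, (Scheme.ofArrows_mem_precoverage_iff @Flat).mpr
      ⟨hsurj, fun i => (inferInstance : Flat (g i).left)⟩⟩
    refine (Scheme.presieve₀_mem_qcPrecoverage_iff (E := ⟨ι, fun i => (V i).left, f⟩)).mpr ⟨fun {O} hO => ?_⟩
    exact IsCompactOpenCovered.of_isOpenMap (fun i => (f i).continuous) (fun i => (g i).left.isOpenMap)
      (fun x _ => hsurj x) O.2 hO.isCompact
  have ht : ∀ i j, Agree (canDatum f N) (sec F (g i) (s i)) (sec F (g j) (s j)) := fun i j => by
    let p₁ := pullback.fst (f i) (f j)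
    let p₂ := pullback.snd (f i) (f j)
    have d : p₁ ⁻¹ᵁ (f i ⁻¹ᵁ ⊤) ⊓ p₂ ⁻¹ᵁ (f j ⁻¹ᵁ ⊤) ≤ ⊤ := le_top
    have h5 := congrArg (M1.mres ((Scheme.Modules.pullback (p₁ ≫ f i)).obj N) d)
      (trans_sec_eq F (g i) (g j) (s i) (s j) (hs i j))
    have h6 : trans p₁ (f i) N rfl (inf_le_left : p₁ ⁻¹ᵁ (f i ⁻¹ᵁ ⊤) ⊓ p₂ ⁻¹ᵁ (f j ⁻¹ᵁ ⊤) ≤ _) (sec F (g i) (s i)) =
        trans p₂ (f j) N pullback.condition.symm
          (inf_le_right : p₁ ⁻¹ᵁ (f i ⁻¹ᵁ ⊤) ⊓ p₂ ⁻¹ᵁ (f j ⁻¹ᵁ ⊤) ≤ _) (sec F (g j) (s j)) :=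
      (mres_trans p₁ (f i) N rfl (top_le p₁) d (sec F (g i) (s i))).symm.trans
        (h5.trans (mres_trans p₂ (f j) N pullback.condition.symm (top_le p₂) d (sec F (g j) (s j))))
    refine Agree.of_pullback ?_
    rw [hm_canDatum, M1.comp_app_apply]
    refine Eq.trans (congrArg (((cmp p₂ (f j) pullback.condition.symm).inv.app N).app _) h6) ?_
    exact app_inv_hom ((cmp p₂ (f j) (h := p₁ ≫ f i) pullback.condition.symm).app N) _ _
  obtain ⟨n, hn⟩ := exists_desc hf N (fun i => sec F (g i) (s i)) ht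
  refine ⟨n, fun i => ?_, fun n' hn' => ?_⟩
  · exact (resMap_eq_can F (g i) n).trans ((congrArg _ (hn i)).trans (hom_sec F (g i) (s i)))
  · refine can_injective hf N n' n fun i => ?_
    refine Eq.trans ?_ (hn i).symm
    exact (sec_hom F (g i) _).symm.trans
      (congrArg (sec F (g i)) ((resMap_eq_can F (g i) n').symm.trans (hn' i)))

end Groth.Agent.EtAssoc12
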