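import Groth.Prelude.Def_EtAssoc2
import Groth.Agent.Lib.EtAssoc12.Glue

/-!
# The étale sheaf associated with a quasi-coherent module
-/

universe u

set_option linter.style.haveILetI false
set_option linter.unusedSectionVars false
set_option backward.isDefEq.respectTransparency false
set_option backward.isDefEq.respectTransparency.types false

open AlgebraicGeometry CategoryTheory Limits Opposite

namespace Groth.Agent.EtAssoc12

open ModLimH13 QcohDesc12


variable {S : Scheme.{u}} (A : S.Etale → AddCommGrpCat.{u}) (r : ∀ {U U' : S.Etale}, (U' ⟶ U) → (A U ⟶ A U'))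
  (hid : ∀ (U : S.Etale) (s : A U), r (𝟙 U) s = s)
  (hcomp : ∀ {U U' U'' : S.Etale} (g : U' ⟶ U) (g' : U'' ⟶ U') (s : A U), r (g' ≫ g) s = r g' (r g s))

/-- A presheaf from its restriction maps. -/
noncomputable def mkPresheaf : S.Etaleᵒᵖ ⥤ AddCommGrpCat.{u + 1} where
  obj U := AddCommGrpCat.of (ULift.{u + 1} (A U.unop))
  map g := AddCommGrpCat.ofHom
    (AddMonoidHom.mk' (fun s => ⟨r g.unop s.down⟩) fun a b => congrArg ULift.up (map_add _ a.down b.down))
  map_id U := by
    ext s
    exact hid U.unop s.down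
  map_comp g g' := by
    ext s
    exact hcomp g.unop g'.unop s.down

/-- A presheaf is a sheaf if sections glue uniquely along small jointly surjective families. -/
theorem isSheaf_mkPresheaf
    (hglue : ∀ {U : S.Etale} {ι : Type u} {V : ι → S.Etale} (g : ∀ i, V i ⟶ U),
      (∀ x : U.left, ∃ i, x ∈ Set.range (g i).left) → ∀ (s : ∀ i, A (V i)),
      (∀ (i j : ι) (W : S.Etale) (a : W ⟶ V i) (b : W ⟶ V j), a ≫ g i = b ≫ g j →
        r a (s i) = r b (s j)) →
      ∃! n : A U, ∀ i, r (g i) n = s i) :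
    Presheaf.IsSheaf S.smallEtaleTopology (mkPresheaf A r hid hcomp) := by
  rw [Presheaf.isSheaf_iff_isSheaf_forget _ _ (forget AddCommGrpCat.{u + 1}), isSheaf_iff_isSheaf_of_type]
  intro U R hR
  have eS : S.smallEtaleTopology =
      (S.smallPretopology (P := EtCoh.etaleMP) (Q := EtCoh.etaleMP)).toGrothendieck :=
    Scheme.smallGrothendieckTopology_eq_toGrothendieck_smallPretopology S le_rfl
  rw [eS] at hR
  replace hR := (Scheme.mem_toGrothendieck_smallPretopology U R).1 hR
  choose V g v hg _ hv using hR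
  have hsurj : ∀ x : U.left, ∃ i, x ∈ Set.range (g i).left := fun x => ⟨x, v x, hv x⟩
  intro s hs
  have hc : ∀ {Y₁ Y₂ W : S.Etale} (a : W ⟶ Y₁) (b : W ⟶ Y₂) {g₁ : Y₁ ⟶ U} {g₂ : Y₂ ⟶ U}
      (h₁ : R.arrows g₁) (h₂ : R.arrows g₂), a ≫ g₁ = b ≫ g₂ →
      r a (s g₁ h₁).down = r b (s g₂ h₂).down := by
    intro Y₁ Y₂ W a b g₁ g₂ h₁ h₂ hab
    exact congrArg ULift.down (hs a b h₁ h₂ hab)
  obtain ⟨n, hn, huniq⟩ := hglue g hsurj (fun i => (s (g i) (hg i)).down)
    fun i j W a b hab => hc a b (hg i) (hg j) hab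
  refine ⟨⟨n⟩, fun Y h hh => ?_, fun n' hn' => ?_⟩
  · apply ULift.ext
    show r h n = (s h hh).down
    let V' : Option U.left → S.Etale := fun o => o.elim Y V
    let g' : ∀ o, V' o ⟶ U := fun
      | none => h
      | some i => g i
    have hg' : ∀ o, R.arrows (g' o) := fun
      | none => hh
      | some i => hg i
    obtain ⟨m, hm, -⟩ := hglue g' (fun x => ⟨some x, v x, hv x⟩)
      (fun o => (s (g' o) (hg' o)).down) fun o o' W a b hab => hc a b (hg' o) (hg' o') hab
    obtain rfl : m = n := huniq m fun i => hm (some i)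
    exact hm none
  · apply ULift.ext
    exact huniq n'.down fun i => congrArg ULift.down (hn' (g i) (hg i))

/-- The étale sheaf associated with a quasi-coherent module exists. -/
theorem exists_assoc (F : S.Modules) [Coh.IsQCoh F] : ∃ G : EtCoh.Ab S, EtAssoc.IsAssoc F G :=
  ⟨⟨mkPresheaf (EtAssoc.obj F) (EtAssoc.resMap F) (resMap_id F) (resMap_comp F),
      isSheaf_mkPresheaf (EtAssoc.obj F) (EtAssoc.resMap F) (resMap_id F) (resMap_comp F) (existsUnique_glue F)⟩,
    fun U => AddEquiv.refl _, fun U U' g s => rfl⟩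

end Groth.Agent.EtAssoc12
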